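import Mathlib

/-!
# Regular pairs lifting along nilpotent flat thickenings
-/

set_option autoImplicit false

universe u

open IsLocalRing TensorProduct

namespace Groth.Agent.Hartogs3

variable {C : Type u} [CommRing C] [IsLocalRing C]

theorem free_of_flat (hm : IsNilpotent (maximalIdeal C)) (M : Type u) [AddCommGroup M] [Module C M]
    [Module.Flat C M] : Module.Free C M := by
  let b := Module.Free.chooseBasis (ResidueField C) (ResidueField C ⊗[C] M)
  have hsurj : Function.Surjective (TensorProduct.mk C (ResidueField C) M 1) :=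
    TensorProduct.mk_surjective C M (ResidueField C) IsLocalRing.residue_surjective
  choose v hv using fun i => hsurj (b i)
  have hli : LinearIndependent C v := Module.IsLocalRing.linearIndependent_of_flat v (by
    convert b.linearIndependent; funext i; exact hv i)
  let N := Submodule.span C (Set.range v)
  have hN : ∀ z : M, z ∈ N ⊔ maximalIdeal C • (⊤ : Submodule C M) := by
    intro z
    have hz : TensorProduct.mk C (ResidueField C) M 1 z ∈
        Submodule.span C (Set.range b) := by
      have := b.mem_span (TensorProduct.mk C (ResidueField C) M 1 z)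
      rwa [← Submodule.restrictScalars_mem C, Submodule.restrictScalars_span C (ResidueField C)
        IsLocalRing.residue_surjective] at this
    have hb : Set.range b = (TensorProduct.mk C (ResidueField C) M 1) '' Set.range v := by
      rw [← Set.range_comp]; exact congrArg Set.range (funext fun i => (hv i).symm)
    rw [hb, Submodule.span_image] at hz
    obtain ⟨w, hw, hwz⟩ := hz
    have : z - w ∈ LinearMap.ker (TensorProduct.mk C (ResidueField C) M 1) := by
      rw [LinearMap.mem_ker, map_sub, hwz, sub_self]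
    erw [LinearMap.ker_tensorProductMk] at this
    exact Submodule.mem_sup.2 ⟨w, hw, z - w, this, add_sub_cancel _ _⟩
  obtain ⟨n, hn⟩ := hm
  have key : ∀ i : ℕ, ⊤ ≤ N ⊔ (maximalIdeal C ^ i) • (⊤ : Submodule C M) := by
    intro i
    induction i with
    | zero => simp
    | succ i ih =>
      refine ih.trans (sup_le le_sup_left ?_)
      calc maximalIdeal C ^ i • (⊤ : Submodule C M)
          ≤ maximalIdeal C ^ i • (N ⊔ maximalIdeal C • (⊤ : Submodule C M)) :=
            Submodule.smul_mono le_rfl fun z _ => hN z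
        _ = maximalIdeal C ^ i • N ⊔ maximalIdeal C ^ (i + 1) • (⊤ : Submodule C M) := by
            rw [Submodule.smul_sup, ← Submodule.mul_smul, ← pow_succ]
        _ ≤ _ := sup_le_sup_right Submodule.smul_le_right _
  have htop : ⊤ ≤ N := by
    have := key n
    rwa [hn, Ideal.zero_eq_bot, Submodule.bot_smul, sup_bot_eq] at this
  exact Module.Free.of_basis (Module.Basis.mk hli htop)

/-- A map of projective modules which is injective modulo a nilpotent maximal ideal has a left inverse. -/
theorem exists_leftInverse (hm : IsNilpotent (maximalIdeal C)) {M N : Type u} [AddCommGroup M]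
    [Module C M] [AddCommGroup N] [Module C N] [Module.Projective C N] (φ : M →ₗ[C] N)
    (hφ : ∀ a, φ a ∈ maximalIdeal C • (⊤ : Submodule C N) → a ∈ maximalIdeal C • (⊤ : Submodule C M)) :
    ∃ ψ : N →ₗ[C] M, ψ.comp φ = LinearMap.id := by
  letI : Field (C ⧸ maximalIdeal C) := Ideal.Quotient.field _
  let φC : M ⧸ maximalIdeal C • (⊤ : Submodule C M) →ₗ[C] N ⧸ maximalIdeal C • (⊤ : Submodule C N) :=
    Submodule.mapQ _ _ φ (Submodule.smul_top_le_comap_smul_top _ φ)
  let φ0 := LinearMap.extendScalarsOfSurjective (S := C ⧸ maximalIdeal C) Ideal.Quotient.mk_surjective φC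
  have hinj : LinearMap.ker φ0 = ⊥ := by
    rw [Submodule.eq_bot_iff]
    intro z hz
    obtain ⟨a, rfl⟩ := Submodule.Quotient.mk_surjective _ z
    exact (Submodule.Quotient.mk_eq_zero _).2 (hφ a ((Submodule.Quotient.mk_eq_zero _).1 hz))
  obtain ⟨ψ0, hψ0⟩ := φ0.exists_leftInverse_of_injective hinj
  obtain ⟨ψ, hψ⟩ := Module.projective_lifting_property
    (maximalIdeal C • (⊤ : Submodule C M)).mkQ
    ((ψ0.restrictScalars C).comp (maximalIdeal C • (⊤ : Submodule C N)).mkQ)
    (Submodule.mkQ_surjective _)
  let e : Module.End C M := 1 - ψ.comp φ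
  have he : ∀ a, e a ∈ maximalIdeal C • (⊤ : Submodule C M) := fun a => by
    rw [← Submodule.Quotient.mk_eq_zero]
    show Submodule.Quotient.mk (a - ψ (φ a)) = 0
    rw [Submodule.Quotient.mk_sub, sub_eq_zero]
    refine Eq.trans ?_ (LinearMap.congr_fun hψ (φ a)).symm
    exact (LinearMap.congr_fun hψ0 (Submodule.Quotient.mk a)).symm
  have hpow : ∀ (i : ℕ), LinearMap.range (e ^ i) ≤ maximalIdeal C ^ i • (⊤ : Submodule C M) := by
    intro i
    induction i with
    | zero => simp
    | succ i ih =>
      rintro _ ⟨a, rfl⟩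
      rw [pow_succ' e, Module.End.mul_apply]
      have h1 := Submodule.mem_map_of_mem (f := e) (ih ⟨a, rfl⟩)
      rw [Submodule.map_smul''] at h1
      have hsub : Submodule.map e (⊤ : Submodule C M) ≤ maximalIdeal C • (⊤ : Submodule C M) := by
        rintro _ ⟨b, -, rfl⟩
        exact he b
      have h2 := Submodule.smul_mono le_rfl hsub h1
      rwa [← Submodule.mul_smul, ← pow_succ] at h2
  obtain ⟨n, hn⟩ := hm
  have hnil : IsNilpotent e := ⟨n, LinearMap.ext fun a => by
    have := hpow n ⟨a, rfl⟩
    rw [hn, Ideal.zero_eq_bot, Submodule.bot_smul, Submodule.mem_bot] at this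
    rw [this]; rfl⟩
  obtain ⟨u, hu⟩ := hnil.isUnit_one_sub
  refine ⟨(↑u⁻¹ : Module.End C M).comp ψ, ?_⟩
  rw [LinearMap.comp_assoc, show ψ.comp φ = (↑u : Module.End C M) by rw [hu]; simp [e]]
  exact u.inv_mul

variable {A : Type u} [CommRing A] [Algebra C A]

/-- A pair of elements of a flat algebra that is regular on the closed fibre is regular. -/
theorem pair_of_pair_mod (hm : IsNilpotent (maximalIdeal C)) [Module.Flat C A] (x y : A)
    (hx : ∀ a, x * a ∈ (maximalIdeal C).map (algebraMap C A) → a ∈ (maximalIdeal C).map (algebraMap C A))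
    (hy : ∀ a, y * a ∈ Ideal.span {x} ⊔ (maximalIdeal C).map (algebraMap C A) →
      a ∈ Ideal.span {x} ⊔ (maximalIdeal C).map (algebraMap C A)) :
    IsSMulRegular A x ∧ ∀ z, x ∣ y * z → x ∣ z := by
  haveI := free_of_flat hm A
  have hmem : ∀ a : A, a ∈ maximalIdeal C • (⊤ : Submodule C A) ↔
      a ∈ (maximalIdeal C).map (algebraMap C A) := fun a => by
    rw [Ideal.smul_top_eq_map, Submodule.restrictScalars_mem]
  obtain ⟨ψ, hψ⟩ := exists_leftInverse hm (LinearMap.mulLeft C x) fun a h => by
    rw [hmem] at h ⊢; exact hx a h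
  have hψ' : ∀ a, ψ (x * a) = a := fun a => LinearMap.congr_fun hψ a
  refine ⟨fun a b h => by
    have := congrArg ψ h
    simp only [smul_eq_mul] at this
    rwa [hψ', hψ'] at this, fun z hz => ?_⟩
  let π : A →ₗ[C] A := LinearMap.id - (LinearMap.mulLeft C x).comp ψ
  let K := LinearMap.ker ψ
  have hπK : ∀ a, π a ∈ K := fun a => by
    show ψ (a - x * ψ a) = 0
    rw [map_sub, hψ', sub_self]
  let π' : A →ₗ[C] K := π.codRestrict K hπK
  have hπ' : π'.comp K.subtype = LinearMap.id := LinearMap.ext fun a => Subtype.ext <| by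
    show (a : A) - x * ψ a = a
    rw [LinearMap.mem_ker.1 a.2, mul_zero, sub_zero]
  haveI : Module.Projective C K := Module.Projective.of_split K.subtype π' hπ'
  obtain ⟨ψ', hψ''⟩ := exists_leftInverse hm ((π'.comp (LinearMap.mulLeft C y)).comp K.subtype) fun a h => by
    have h1 := Submodule.mem_map_of_mem (f := K.subtype) h
    rw [Submodule.map_smul''] at h1
    have h2 := (hmem _).1 ((Submodule.smul_mono le_rfl le_top) h1)
    have h3 : y * (a : A) ∈ Ideal.span {x} ⊔ (maximalIdeal C).map (algebraMap C A) := by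
      rw [show y * (a : A) = x * ψ (y * a) + (y * a - x * ψ (y * a)) by ring]
      exact Submodule.add_mem_sup (Ideal.mem_span_singleton.2 (dvd_mul_right _ _)) h2
    obtain ⟨u, hu, w, hw, huw⟩ := Submodule.mem_sup.1 (hy _ h3)
    obtain ⟨c, rfl⟩ := Ideal.mem_span_singleton.1 hu
    have h4 : a = π' w := Subtype.ext <| by
      show (a : A) = w - x * ψ w
      have h5 := LinearMap.mem_ker.1 a.2
      rw [← huw] at h5 ⊢
      rw [map_add, hψ'] at h5
      linear_combination x * h5
    rw [h4]
    have h6 := Submodule.mem_map_of_mem (f := π') ((hmem w).2 hw)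
    rw [Submodule.map_smul''] at h6
    exact (Submodule.smul_mono le_rfl le_top) h6
  obtain ⟨c, hc⟩ := hz
  have h0 : π' (y * z) = 0 := Subtype.ext <| by
    show y * z - x * ψ (y * z) = 0
    rw [hc, hψ', sub_self]
  have h1 : π' (y * (π' z : A)) = 0 := by
    have : π' (x * (y * ψ z)) = 0 := Subtype.ext <| by
      show x * (y * ψ z) - x * ψ (x * (y * ψ z)) = 0
      rw [hψ', sub_self]
    rw [show y * (π' z : A) = y * z - x * (y * ψ z) by show y * (z - x * ψ z) = _; ring, map_sub, h0,
      this, sub_zero]
  have h2 : π' z = 0 := by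
    have := congrArg ψ' h1
    rw [map_zero] at this
    exact (LinearMap.congr_fun hψ'' (π' z)).symm.trans this
  refine ⟨ψ z, ?_⟩
  have := congrArg Subtype.val h2
  exact sub_eq_zero.1 this

end Groth.Agent.Hartogs3
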