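import Groth.Agent.Lib.ParaF27.DepthTwo
import Mathlib.RingTheory.Ideal.AssociatedPrime.Finiteness

/-!
# Regular pairs in normal Noetherian rings
-/

set_option autoImplicit false

universe u

open IsLocalRing AlgebraicGeometry

namespace Groth.Agent.Hartogs3

variable {B : Type u} [CommRing B]

theorem height_le_one_of_colon [IsNoetherianRing B] (P : Ideal B) [hP : P.IsPrime]
    [IsDomain (Localization.AtPrime P)] [IsIntegrallyClosed (Localization.AtPrime P)] (x a : B)
    (ha : ∀ t ∈ P, x ∣ t * a) (hcol : ∀ t : B, x ∣ t * a → t ∈ P) : P.height ≤ 1 := by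
  by_contra hh
  let R := Localization.AtPrime P
  let f := algebraMap B R
  have hdim : (2 : WithBot ℕ∞) ≤ ringKrullDim R := by
    rw [IsLocalization.AtPrime.ringKrullDim_eq_height P R]
    exact WithBot.coe_le_coe.2 (Order.add_one_le_of_lt (not_le.1 hh) |> fun h => by simpa [one_add_one_eq_two] using h)
  haveI : IsNoetherianRing R := IsLocalization.isNoetherianRing P.primeCompl R inferInstance
  have hna : ¬ f x ∣ f a := fun h => by
    obtain ⟨c, hc⟩ := h
    obtain ⟨⟨b, s⟩, hb⟩ := IsLocalization.surj P.primeCompl c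
    have : f (a * s) = f (x * b) := by rw [map_mul, map_mul, hc, mul_assoc, hb]
    obtain ⟨⟨u, hu⟩, hu'⟩ := (IsLocalization.eq_iff_exists P.primeCompl R).1 this
    exact (P.primeCompl.mul_mem hu s.2) (hcol _ ⟨u * b, by
      simp only at hu' ⊢; linear_combination hu'⟩)
  have hm : ∀ t ∈ maximalIdeal R, f x ∣ t * f a := by
    intro t ht
    obtain ⟨⟨b, s⟩, hb⟩ := IsLocalization.surj P.primeCompl t
    have hbP : b ∈ P := (IsLocalization.AtPrime.to_map_mem_maximal_iff R P b).1
      (by rw [← hb]; exact Ideal.mul_mem_right _ _ ht)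
    obtain ⟨c, hc⟩ := ha b hbP
    obtain ⟨v, hv⟩ := IsLocalization.map_units R s
    refine ⟨f c * ↑v⁻¹, ?_⟩
    have : t * f a * f s = f x * f c := by
      rw [← map_mul f x c, ← hc, map_mul, ← hb]; ring
    rw [← hv] at this
    rw [← mul_assoc, ← this, mul_assoc, Units.mul_inv, mul_one]
  by_cases hx : f x = 0
  · obtain ⟨t, ht, ht0⟩ := Submodule.exists_mem_ne_zero_of_ne_bot (p := maximalIdeal R) (fun h' => by
      rw [← IsLocalRing.isField_iff_maximalIdeal_eq] at h'
      rw [ringKrullDim_eq_zero_of_isField h'] at hdim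
      exact absurd hdim (by decide))
    obtain ⟨c, hc⟩ := hm t ht
    rw [hx, zero_mul, mul_eq_zero] at hc
    exact hna ⟨0, by rw [mul_zero]; exact hc.resolve_left ht0⟩
  · refine hna (ParaF27.dvdOn_of_normal hdim (f a) (f x) hx fun p hp => ?_)
    have hpm := (ParaF27.mem_puncturedSpec_iff R).1 hp
    obtain ⟨t, ht, htp⟩ := SetLike.not_le_iff_exists.1 fun hle =>
      hpm ((maximalIdeal.isMaximal R).eq_of_le p.2.ne_top hle).symm
    exact ⟨t, htp, hm t ht⟩

theorem exists_notMem_associatedPrimes [IsNoetherianRing B] (I : Ideal B) (x : B)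
    (hloc : ∀ (P : Ideal B) [P.IsPrime], IsDomain (Localization.AtPrime P) ∧
      IsIntegrallyClosed (Localization.AtPrime P))
    (hI : ∀ P : Ideal B, P.IsPrime → I ≤ P → (2 : ℕ∞) ≤ P.height) :
    ∃ y ∈ I, ∀ a, x ∣ y * a → x ∣ a := by
  let M := B ⧸ Ideal.span ({x} : Set B)
  have hfin : (associatedPrimes B M).Finite := associatedPrimes.finite B M
  have hle : ∀ P ∈ associatedPrimes B M, ¬ I ≤ P := by
    intro P hP hIP
    obtain ⟨hPp, m, hm⟩ := isAssociatedPrime_iff.1 hP
    obtain ⟨a, rfl⟩ := Ideal.Quotient.mk_surjective m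
    haveI := hPp
    obtain ⟨h1, h2⟩ := hloc P
    have hmem : ∀ t, t ∈ P ↔ x ∣ t * a := fun t => by
      rw [hm, Submodule.mem_colon_singleton, Submodule.mem_bot, Algebra.smul_def,
        Ideal.Quotient.algebraMap_eq, ← map_mul, Ideal.Quotient.eq_zero_iff_mem, Ideal.mem_span_singleton]
    have := (hI P hPp hIP).trans (height_le_one_of_colon P x a (fun t => (hmem t).1) fun t => (hmem t).2)
    exact absurd this (by decide)
  have hnot : ¬ (I : Set B) ⊆ ⋃ P ∈ associatedPrimes B M, (P : Set B) := by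
    intro hsub
    have hsub' : (I : Set B) ⊆ ⋃ P ∈ (hfin.toFinset : Set (Ideal B)), ((id P : Ideal B) : Set B) := by
      simpa using hsub
    obtain ⟨P, hP, hIP⟩ := (Ideal.subset_union_prime ⊥ ⊥ fun P hP _ _ =>
      (hfin.mem_toFinset.1 hP).1).1 hsub'
    exact hle P (hfin.mem_toFinset.1 hP) hIP
  obtain ⟨y, hyI, hy⟩ := Set.not_subset.1 hnot
  refine ⟨y, hyI, fun a ha => ?_⟩
  by_contra hxa
  apply hy
  have : y ∈ {r : B | ∃ m : M, m ≠ 0 ∧ r • m = 0} :=
    ⟨Ideal.Quotient.mk _ a, fun h => hxa (Ideal.mem_span_singleton.1 (Ideal.Quotient.eq_zero_iff_mem.1 h)),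
      by rw [Algebra.smul_def, Ideal.Quotient.algebraMap_eq, ← map_mul]
         exact Ideal.Quotient.eq_zero_iff_mem.2 (Ideal.mem_span_singleton.2 ha)⟩
  rwa [← biUnion_associatedPrimes_eq_zero_divisors] at this

theorem exists_pair [IsNoetherianRing B] (I : Ideal B)
    (hloc : ∀ (P : Ideal B) [P.IsPrime], IsDomain (Localization.AtPrime P) ∧
      IsIntegrallyClosed (Localization.AtPrime P))
    (hI : ∀ P : Ideal B, P.IsPrime → I ≤ P → (2 : ℕ∞) ≤ P.height) :
    ∃ x ∈ I, ∃ y ∈ I, (∀ a, x * a = 0 → a = 0) ∧ ∀ a, x ∣ y * a → x ∣ a := by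
  obtain ⟨x, hx, hx0⟩ := exists_notMem_associatedPrimes I 0 hloc hI
  obtain ⟨y, hy, hy0⟩ := exists_notMem_associatedPrimes I x hloc hI
  exact ⟨x, hx, y, hy, fun a ha => zero_dvd_iff.1 (hx0 a (zero_dvd_iff.2 ha)), hy0⟩

end Groth.Agent.Hartogs3
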