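import Groth.Agent.Lib.Hartogs3.Flat
import Groth.Agent.Lib.Hartogs3.Normal
import Mathlib.AlgebraicGeometry.AffineScheme

/-!
# Extension of sections over a regular pair
-/

set_option autoImplicit false

universe u

open CategoryTheory AlgebraicGeometry TopologicalSpace Opposite

namespace Groth.Agent.Hartogs3

/-- Primes of a quotient by a nil ideal. -/
noncomputable def orderIso {A B : Type u} [CommRing A] [CommRing B] (π : A →+* B)
    (hπ : Function.Surjective π) (hnil : ∀ t, π t = 0 → t ∈ nilradical A) :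
    PrimeSpectrum B ≃o PrimeSpectrum A :=
  RelIso.mk (Equiv.ofBijective (fun P => PrimeSpectrum.comap π P)
    ⟨PrimeSpectrum.comap_injective_of_surjective π hπ, fun p => by
      have hk : RingHom.ker π ≤ p.asIdeal := fun t ht =>
        nilradical_le_prime p.asIdeal (hnil t ht)
      refine ⟨⟨p.asIdeal.map π, Ideal.map_isPrime_of_surjective hπ hk⟩, PrimeSpectrum.ext ?_⟩
      show (p.asIdeal.map π).comap π = p.asIdeal
      rw [Ideal.comap_map_of_surjective π hπ]
      exact sup_eq_left.2 hk⟩)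
    (fun {P Q} => (Ideal.comap_le_comap_iff_of_surjective π hπ P.asIdeal Q.asIdeal))

section
variable {X : Scheme.{u}} (hX : IsAffineOpen (⊤ : X.Opens))

include hX

theorem res_pow_eq_zero (f r : Γ(X, ⊤)) (h : X.presheaf.map (homOfLE (le_top : X.basicOpen f ≤ ⊤)).op r = 0) :
    ∃ n : ℕ, f ^ n * r = 0 := by
  letI : Algebra Γ(X, ⊤) Γ(X, X.basicOpen f) := (X.presheaf.map (homOfLE (le_top : X.basicOpen f ≤ ⊤)).op).hom.toAlgebra
  haveI : IsLocalization.Away f Γ(X, X.basicOpen f) := hX.isLocalization_basicOpen f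
  obtain ⟨⟨_, n, rfl⟩, hc⟩ := (IsLocalization.map_eq_zero_iff (Submonoid.powers f) Γ(X, X.basicOpen f) r).1 h
  exact ⟨n, hc⟩

theorem exists_num (f : Γ(X, ⊤)) (s : Γ(X, X.basicOpen f)) :
    ∃ (n : ℕ) (a : Γ(X, ⊤)), s * X.presheaf.map (homOfLE (le_top : X.basicOpen f ≤ ⊤)).op f ^ n =
      X.presheaf.map (homOfLE (le_top : X.basicOpen f ≤ ⊤)).op a := by
  letI : Algebra Γ(X, ⊤) Γ(X, X.basicOpen f) := (X.presheaf.map (homOfLE (le_top : X.basicOpen f ≤ ⊤)).op).hom.toAlgebra
  haveI : IsLocalization.Away f Γ(X, X.basicOpen f) := hX.isLocalization_basicOpen f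
  exact IsLocalization.Away.surj f s

theorem isUnit_res (f : Γ(X, ⊤)) :
    IsUnit (X.presheaf.map (homOfLE (le_top : X.basicOpen f ≤ ⊤)).op f) :=
  RingedSpace.isUnit_res_basicOpen _ f

theorem bijective_res_aux (U : X.Opens) (x y : Γ(X, ⊤)) (hxU : X.basicOpen x ≤ U)
    (hyU : X.basicOpen y ≤ U) (hx : ∀ a, x * a = 0 → a = 0) (hxy : ∀ z, x ∣ y * z → x ∣ z) :
    Function.Bijective (X.presheaf.map (homOfLE (le_top : U ≤ ⊤)).op) := by
  have hxn : ∀ (n : ℕ) a, x ^ n * a = 0 → a = 0 := fun n => by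
    induction n with
    | zero => exact fun a h => by simpa using h
    | succ n ih => exact fun a h => hx a (ih _ (by rwa [← mul_assoc, ← pow_succ]))
  have hres : ∀ {V W : X.Opens} (h : W ≤ V) (r : Γ(X, ⊤)),
      X.presheaf.map (homOfLE h).op (X.presheaf.map (homOfLE (le_top : V ≤ ⊤)).op r) =
        X.presheaf.map (homOfLE (le_top : W ≤ ⊤)).op r := fun h r => by
    rw [← ConcreteCategory.comp_apply, ← Functor.map_comp]; rfl
  constructor
  · refine (injective_iff_map_eq_zero (X.presheaf.map (homOfLE (le_top : U ≤ ⊤)).op).hom).2 fun r hr => ?_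
    have h0 := congrArg (X.presheaf.map (homOfLE hxU).op) hr
    rw [map_zero] at h0
    obtain ⟨n, hn⟩ := res_pow_eq_zero hX x r (by rw [← hres hxU r]; exact h0)
    exact hxn n r hn
  · intro s
    obtain ⟨n, a, ha⟩ := exists_num hX x (X.presheaf.map (homOfLE hxU).op s)
    obtain ⟨m, b, hb⟩ := exists_num hX y (X.presheaf.map (homOfLE hyU).op s)
    have hlx : X.basicOpen (x * y) ≤ X.basicOpen x := by rw [Scheme.basicOpen_mul]; exact inf_le_left
    have hly : X.basicOpen (x * y) ≤ X.basicOpen y := by rw [Scheme.basicOpen_mul]; exact inf_le_right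
    have h1 := congrArg (X.presheaf.map (homOfLE hlx).op) ha
    have h2 := congrArg (X.presheaf.map (homOfLE hly).op) hb
    rw [map_mul, map_pow, hres hlx, hres hlx, ← ConcreteCategory.comp_apply, ← Functor.map_comp] at h1
    rw [map_mul, map_pow, hres hly, hres hly, ← ConcreteCategory.comp_apply, ← Functor.map_comp] at h2
    obtain ⟨k, hk⟩ := res_pow_eq_zero hX (x * y) (a * y ^ m - x ^ n * b) (by
      rw [map_sub, map_mul, map_mul, map_pow, map_pow, ← h1, ← h2]
      simp only [← op_comp, homOfLE_comp]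
      ring)
    have h3 : y ^ (k + m) * a = x ^ n * (y ^ k * b) := by
      refine sub_eq_zero.1 (hxn k _ ?_)
      rw [← hk]; ring
    have hdvd : ∀ (n : ℕ) z, x ^ n ∣ y * z → x ^ n ∣ z := fun n => by
      induction n with
      | zero => exact fun z _ => by simp
      | succ n ih =>
        intro z hz
        obtain ⟨c, hc⟩ := hz
        obtain ⟨z', rfl⟩ := hxy z ⟨x ^ n * c, by rw [hc]; ring⟩
        obtain ⟨w, rfl⟩ := ih z' ⟨c, sub_eq_zero.1 (hx _ (by linear_combination hc))⟩
        exact ⟨w, by ring⟩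
    have hdvd' : ∀ (k : ℕ) z, x ^ n ∣ y ^ k * z → x ^ n ∣ z := fun k => by
      induction k with
      | zero => exact fun z hz => by simpa using hz
      | succ k ih => exact fun z hz => hdvd n z (ih _ (by rwa [pow_succ, mul_assoc] at hz))
    obtain ⟨c, rfl⟩ := hdvd' _ a ⟨_, h3⟩
    have hcx : X.presheaf.map (homOfLE hxU).op s = X.presheaf.map (homOfLE (le_top : X.basicOpen x ≤ ⊤)).op c := by
      refine ((isUnit_res hX x).pow n).mul_right_cancel (ha.trans ?_)
      rw [map_mul, map_pow, mul_comm]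
    refine ⟨c, ?_⟩
    refine X.sheaf.eq_of_locally_eq' (fun g : { g : Γ(X, ⊤) // X.basicOpen g ≤ U } => X.basicOpen g.1) U
      (fun g => homOfLE g.2) ?_ _ _ ?_
    · intro p hp
      obtain ⟨g, hg, hpg⟩ := hX.exists_basicOpen_le (V := U) ⟨p, hp⟩ trivial
      exact Opens.mem_iSup.2 ⟨⟨g, hg⟩, hpg⟩
    · rintro ⟨g, hg⟩
      show X.presheaf.map (homOfLE hg).op _ = X.presheaf.map (homOfLE hg).op s
      rw [hres hg c]
      obtain ⟨j, e, he⟩ := exists_num hX g (X.presheaf.map (homOfLE hg).op s)
      have hl : X.basicOpen (g * x) ≤ X.basicOpen g := by rw [Scheme.basicOpen_mul]; exact inf_le_left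
      have hl' : X.basicOpen (g * x) ≤ X.basicOpen x := by rw [Scheme.basicOpen_mul]; exact inf_le_right
      have h4 := congrArg (X.presheaf.map (homOfLE hl).op) he
      rw [map_mul, map_pow, hres hl, hres hl, ← ConcreteCategory.comp_apply, ← Functor.map_comp] at h4
      have h5 := congrArg (X.presheaf.map (homOfLE hl').op) hcx
      rw [hres hl', ← ConcreteCategory.comp_apply, ← Functor.map_comp] at h5
      simp only [← op_comp, homOfLE_comp] at h4 h5
      obtain ⟨i, hi⟩ := res_pow_eq_zero hX (g * x) (e - c * g ^ j) (by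
        rw [map_sub, map_mul, map_pow, ← h4, h5, sub_self])
      have h6 : g ^ i * (e - c * g ^ j) = 0 := hxn i _ (by rw [← hi]; ring)
      have h7 := congrArg (X.presheaf.map (homOfLE (le_top : X.basicOpen g ≤ ⊤)).op) h6
      rw [map_mul, map_sub, map_mul, map_pow, map_pow, map_zero, ← he, ← sub_mul] at h7
      have h8 := ((isUnit_res hX g).pow i).mul_right_eq_zero.1 h7
      exact (sub_eq_zero.1 (((isUnit_res hX g).pow j).mul_left_eq_zero.1 h8)).symm

end

/-- Sections over an open set containing `D(x)` and `D(y)`, with `(x,y)` a regular pair, extend uniquely. -/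
theorem bijective_res {A : Type u} [CommRing A] (U : (Spec (CommRingCat.of A)).Opens) (x y : A)
    (hxU : PrimeSpectrum.basicOpen x ≤ U) (hyU : PrimeSpectrum.basicOpen y ≤ U) (hx : IsSMulRegular A x)
    (hxy : ∀ z, x ∣ y * z → x ∣ z) :
    Function.Bijective ((Spec (CommRingCat.of A)).presheaf.map (homOfLE (le_top : U ≤ ⊤)).op) := by
  let e := (Scheme.ΓSpecIso (CommRingCat.of A)).commRingCatIsoToRingEquiv
  have hb : ∀ f : A, (Spec (CommRingCat.of A)).basicOpen (e.symm f) = PrimeSpectrum.basicOpen f :=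
    fun f => basicOpen_eq_of_affine (R := CommRingCat.of A) f
  refine bijective_res_aux (isAffineOpen_top _) U (e.symm x) (e.symm y) (by rw [hb]; exact hxU)
    (by rw [hb]; exact hyU) (fun a ha => ?_) (fun z hz => ?_)
  · have := congrArg e ha
    rw [map_mul, e.apply_symm_apply, map_zero] at this
    exact e.injective ((hx (show x • e a = x • (0 : A) by rw [smul_zero]; exact this)).trans (map_zero e).symm)
  · have := map_dvd e hz
    rw [map_mul, e.apply_symm_apply, e.apply_symm_apply] at this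
    have h2 := map_dvd e.symm (hxy _ this)
    rwa [e.symm_apply_apply] at h2

end Groth.Agent.Hartogs3
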